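import Mathlib

/-!
# Signs of some permutations (helper188)
-/

set_option autoImplicit false

namespace Cfsg.Agent.H188.Fx

open Equiv Equiv.Perm

variable {α : Type*} [Fintype α] [DecidableEq α]

/-- an element of order 8 on nine points is odd -/
theorem sign_nine (h : Fintype.card α = 9) {σ : Perm α} (hσ : orderOf σ = 8) : sign σ = -1 := by
  have h8 : 8 ∈ σ.cycleType := by
    by_contra hcon
    have h1 : σ.cycleType.lcm ∣ 4 := by
      rw [Multiset.lcm_dvd]
      intro n hn
      have h2 : n ∣ 8 := hσ ▸ dvd_of_mem_cycleType hn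
      have h3 : n ≤ 8 := Nat.le_of_dvd (by norm_num) h2
      have h4 : n ≠ 8 := fun h5 => hcon (h5 ▸ hn)
      interval_cases n <;> omega
    rw [lcm_cycleType, hσ] at h1
    omega
  obtain ⟨m, hm⟩ := Multiset.exists_cons_of_mem h8
  have h1 : σ.cycleType.sum ≤ 9 := h ▸ sum_cycleType_le σ
  have h2 : m = 0 := by
    rw [Multiset.eq_zero_iff_forall_notMem]
    intro n hn
    have h3 : 2 ≤ n := two_le_of_mem_cycleType (σ := σ) (by rw [hm]; exact Multiset.mem_cons_of_mem hn)
    have h4 : n ≤ m.sum := Multiset.le_sum_of_mem hn
    rw [hm, Multiset.sum_cons] at h1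
    omega
  rw [sign_of_cycleType, hm, h2]
  decide

/-- an element of order 4 on fourteen points, with two fixed points, whose square has no further
fixed points, is odd -/
theorem sign_fourteen (h : Fintype.card α = 14) {σ : Perm α} (h4 : σ ^ 4 = 1)
    (hf : ∀ x, σ (σ x) = x → σ x = x) (hc : Fintype.card (Function.fixedPoints σ) = 2) :
    sign σ = -1 := by
  have h1 : σ.cycleType = Multiset.replicate (Multiset.card σ.cycleType) 4 := by
    rw [Multiset.eq_replicate_card]
    intro n hn
    have h2 : n ∣ 4 := (dvd_of_mem_cycleType hn).trans (orderOf_dvd_of_pow_eq_one h4)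
    have h3 : 2 ≤ n := two_le_of_mem_cycleType hn
    have h5 : n ≤ 4 := Nat.le_of_dvd (by norm_num) h2
    have h6 : n ≠ 2 := by
      rintro rfl
      obtain ⟨c, τ, hστ, hd, hcy, hcard⟩ := mem_cycleType_iff.1 hn
      have hc2 : c * c = 1 := by
        obtain ⟨u, v, huv, rfl⟩ := card_support_eq_two.1 hcard
        exact swap_mul_self u v
      obtain ⟨x, hx, -⟩ := hcy
      have hx1 : x ∈ c.support := mem_support.2 hx
      have e1 : σ x = c x := by
        rw [hστ, mul_apply]
        rcases hd x with h7 | h7
        · exact absurd h7 hx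
        · rw [h7]
      have e2 : σ (c x) = c (c x) := by
        rw [hστ, mul_apply]
        rcases hd (c x) with h7 | h7
        · exact absurd (c.injective h7) hx
        · rw [h7]
      have e3 : c (c x) = x := by rw [← mul_apply, hc2, one_apply]
      have := hf x (by rw [e1, e2, e3])
      rw [e1] at this
      exact hx this
    interval_cases n <;> omega
  rw [sign_of_cycleType_eq_replicate (by norm_num) h1, h, hc]
  decide

end Cfsg.Agent.H188.Fx
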