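import Cfsg.Agent.H188.Fx.Tools
import Cfsg.Agent.H188.Fx.PermSign
import Cfsg.Agent.H2.UniqCUThree

/-!
# `U₃(3)` has no action of fixity at most 3 with point stabilizers of even order (helper188)
-/

set_option autoImplicit false
set_option linter.style.haveILetI false
set_option linter.unusedVariables false

namespace Cfsg.Agent.H188.Fx

open Subgroup Equiv.Perm Cfsg.Agent.H254.Ev
open Cfsg.Agent.EvenType.StrongP (mem_map_conj)

/-- what we use about `U₃(3)`: `⟨a, b, s⟩` is a Sylow 2-subgroup, `a² b²` an involution with centralizer of order `96`,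
`y` of order 3 centralizes it -/
structure IsU33 {G : Type*} [Group G] (a b s y : G) : Prop where
  card : Nat.card G = 6048
  a4 : a ^ 4 = 1
  b4 : b ^ 4 = 1
  ab : a * b = b * a
  ss : s * s = 1
  sa : s * a = b * s
  y3 : y ^ 3 = 1
  y1 : y ≠ 1
  yZ : y * (a ^ 2 * b ^ 2) = a ^ 2 * b ^ 2 * y
  ya : y * a ^ 2 * y⁻¹ = a * b ^ 3 * s
  ker : ∀ i j : Fin 4, ∀ k : Fin 2, a ^ (i : ℕ) * b ^ (j : ℕ) * s ^ (k : ℕ) = 1 → i = 0 ∧ j = 0 ∧ k = 0
  one : ∀ t : G, t * t = 1 → t ≠ 1 → IsConj (a ^ 2 * b ^ 2) t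

namespace IsU33

variable {G : Type*} [Group G] {a b s y : G}

theorem sb (h : IsU33 a b s y) : s * b = a * s := by
  have h1 : s * b = s * (b * s) * s := by rw [mul_assoc, mul_assoc, h.ss, mul_one]
  rw [h1, ← h.sa, ← mul_assoc, h.ss, one_mul]

theorem pp (h : IsU33 a b s y) (m n : ℕ) : a ^ m * b ^ n = b ^ n * a ^ m :=
  ((show Commute a b from h.ab).pow_pow m n).eq

theorem spa (h : IsU33 a b s y) (n : ℕ) : s * a ^ n = b ^ n * s := by
  induction n with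
  | zero => simp
  | succ n ih => rw [pow_succ, ← mul_assoc, ih, mul_assoc, h.sa, ← mul_assoc, ← pow_succ]

theorem spb (h : IsU33 a b s y) (n : ℕ) : s * b ^ n = a ^ n * s := by
  induction n with
  | zero => simp
  | succ n ih => rw [pow_succ, ← mul_assoc, ih, mul_assoc, h.sb, ← mul_assoc, ← pow_succ]

theorem s_inv (h : IsU33 a b s y) : s⁻¹ = s := by
  rw [inv_eq_iff_mul_eq_one]; exact h.ss

theorem b_inv (h : IsU33 a b s y) : b⁻¹ = b ^ 3 := by
  rw [inv_eq_iff_mul_eq_one, ← pow_succ']; exact h.b4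

theorem aZ (h : IsU33 a b s y) : a * (a ^ 2 * b ^ 2) = a ^ 2 * b ^ 2 * a := by
  have := h.pp 1 2
  rw [pow_one] at this
  rw [mul_assoc, ← this, ← mul_assoc, ← mul_assoc, ← pow_succ', ← pow_succ]

theorem bZ (h : IsU33 a b s y) : b * (a ^ 2 * b ^ 2) = a ^ 2 * b ^ 2 * b := by
  have := h.pp 2 1
  rw [pow_one] at this
  rw [← mul_assoc, ← this, mul_assoc, mul_assoc, ← pow_succ', ← pow_succ]

theorem sZ (h : IsU33 a b s y) : s * (a ^ 2 * b ^ 2) = a ^ 2 * b ^ 2 * s := by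
  rw [← mul_assoc, h.spa, mul_assoc, h.spb, ← mul_assoc, ← h.pp]

/-- `(a s)² = a b` -/
theorem as_sq (h : IsU33 a b s y) : (a * s) ^ 2 = a * b := by
  have : (a * s) ^ 2 = a * (s * a) * s := by rw [pow_two]; group
  rw [this, h.sa, ← mul_assoc, mul_assoc, mul_assoc, h.ss, mul_one]

theorem ab_sq (h : IsU33 a b s y) : (a * b) ^ 2 = a ^ 2 * b ^ 2 :=
  (show Commute a b from h.ab).mul_pow 2

theorem ab4 (h : IsU33 a b s y) : (a * b) ^ 4 = 1 := by
  rw [(show Commute a b from h.ab).mul_pow, h.a4, h.b4, one_mul]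

theorem Z_ne (h : IsU33 a b s y) : a ^ 2 * b ^ 2 ≠ 1 := by
  intro h1
  have := h.ker 2 2 0 (by simpa using h1)
  exact absurd this.1 (by decide)

theorem Z_sq (h : IsU33 a b s y) : (a ^ 2 * b ^ 2) * (a ^ 2 * b ^ 2) = 1 := by
  have h1 := h.ab4
  rw [← h.ab_sq, ← pow_add]
  exact h1

/-- `[a, s] = a b³` -/
theorem comm_as (h : IsU33 a b s y) : a * s * a⁻¹ * s⁻¹ = a * b ^ 3 := by
  rw [h.s_inv, ← h.b_inv]
  have h1 : s * a⁻¹ = b⁻¹ * s := by
    rw [eq_inv_mul_iff_mul_eq, ← mul_assoc, ← h.sa, mul_inv_cancel_right]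
  rw [mul_assoc a, h1, mul_assoc, mul_assoc, h.ss, mul_one]

theorem ab3_4 (h : IsU33 a b s y) : (a * b ^ 3) ^ 4 = 1 := by
  rw [((show Commute a b from h.ab).pow_right 3).mul_pow, h.a4, ← pow_mul, mul_comm 3 4, pow_mul,
    h.b4, one_pow, one_mul]

theorem as_order (h : IsU33 a b s y) : orderOf (a * s) = 8 := by
  have h1 : (a * s) ^ (2 ^ 2) ≠ 1 := by
    rw [show (2 : ℕ) ^ 2 = 2 * 2 by norm_num, pow_mul, h.as_sq, h.ab_sq]
    exact h.Z_ne
  have h2 : (a * s) ^ (2 ^ (2 + 1)) = 1 := by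
    rw [show (2 : ℕ) ^ (2 + 1) = 2 * 4 by norm_num, pow_mul, h.as_sq, h.ab4]
  have h3 := orderOf_eq_prime_pow (p := 2) (n := 2) h1 h2
  rw [h3]; norm_num

theorem map (h : IsU33 a b s y) {G' : Type*} [Group G'] (e : G ≃* G') :
    IsU33 (e a) (e b) (e s) (e y) := by
  have key : ∀ x z : G, x = z → e x = e z := fun x z hxz => by rw [hxz]
  refine ⟨?_, ?_, ?_, ?_, ?_, ?_, ?_, ?_, ?_, ?_, ?_, ?_⟩
  · rw [← Nat.card_congr e.toEquiv]; exact h.card
  · rw [← map_pow, h.a4, map_one]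
  · rw [← map_pow, h.b4, map_one]
  · simpa using key _ _ h.ab
  · simpa using key _ _ h.ss
  · simpa using key _ _ h.sa
  · rw [← map_pow, h.y3, map_one]
  · intro h1
    exact h.y1 (e.injective (by rw [h1, map_one]))
  · simpa using key _ _ h.yZ
  · simpa using key _ _ h.ya
  · intro i j k hk
    refine h.ker i j k (e.injective ?_)
    simpa using hk
  · intro t ht ht1
    have h1 := h.one (e.symm t) (by rw [← map_mul, ht, map_one]) (by
      intro h2; exact ht1 (by rw [← e.apply_symm_apply t, h2, map_one]))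
    obtain ⟨g, hg⟩ := isConj_iff.1 h1
    refine isConj_iff.2 ⟨e g, ?_⟩
    have h2 := key _ _ hg
    rw [e.apply_symm_apply] at h2
    simpa using h2

/-- the elements of `⟨a, b, s⟩` -/
def nf (a b s : G) (p : Fin 4 × Fin 4 × Fin 2) : G :=
  a ^ (p.1 : ℕ) * b ^ (p.2.1 : ℕ) * s ^ (p.2.2 : ℕ)

theorem nf_inj (h : IsU33 a b s y) : Function.Injective (nf a b s) := by
  have hA : a ∈ closure ({a, b, s} : Set G) := subset_closure (by simp)
  have hB : b ∈ closure ({a, b, s} : Set G) := subset_closure (by simp)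
  have hS : s ∈ closure ({a, b, s} : Set G) := subset_closure (by simp)
  have hc := H2.UniqCUThree.wr_card h.a4 h.b4 h.ab h.ss h.sa h.ker
  let f : Fin 4 × Fin 4 × Fin 2 → ↥(closure ({a, b, s} : Set G)) := fun p =>
    ⟨nf a b s p, mul_mem (mul_mem (pow_mem hA _) (pow_mem hB _)) (pow_mem hS _)⟩
  have hsurj : Function.Surjective f := by
    rintro ⟨x, hx⟩
    obtain ⟨i, j, k, rfl⟩ := H2.UniqCUThree.wr_mem h.a4 h.b4 h.ab h.ss h.sa hx
    refine ⟨(⟨i % 4, Nat.mod_lt _ (by norm_num)⟩, ⟨j % 4, Nat.mod_lt _ (by norm_num)⟩,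
      ⟨k % 2, Nat.mod_lt _ (by norm_num)⟩), Subtype.ext ?_⟩
    have hma : a ^ i = a ^ (i % 4) := by
      conv_lhs => rw [← Nat.div_add_mod i 4]
      rw [pow_add, pow_mul, h.a4, one_pow, one_mul]
    have hmb : b ^ j = b ^ (j % 4) := by
      conv_lhs => rw [← Nat.div_add_mod j 4]
      rw [pow_add, pow_mul, h.b4, one_pow, one_mul]
    have hms : s ^ k = s ^ (k % 2) := by
      conv_lhs => rw [← Nat.div_add_mod k 2]
      rw [pow_add, pow_mul, pow_two, h.ss, one_pow, one_mul]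
    show a ^ (i % 4) * b ^ (j % 4) * s ^ (k % 2) = _
    rw [← hma, ← hmb, ← hms]
  haveI : Finite ↥(closure ({a, b, s} : Set G)) := Finite.of_surjective f hsurj
  haveI : Fintype ↥(closure ({a, b, s} : Set G)) := Fintype.ofFinite _
  have hbij : Function.Bijective f := by
    rw [Fintype.bijective_iff_surjective_and_card]
    refine ⟨hsurj, ?_⟩
    rw [← Nat.card_eq_fintype_card (α := ↥(closure ({a, b, s} : Set G))), hc]
    rfl
  intro p q hpq
  exact hbij.1 (Subtype.ext hpq)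

/-- exponents of the seven involutions -/
def ex7 : Fin 7 → Fin 4 × Fin 4 × Fin 2 :=
  ![(2, 2, 0), (2, 0, 0), (0, 2, 0), (1, 3, 1), (2, 2, 1), (3, 1, 1), (0, 0, 1)]

theorem ex7_inj : Function.Injective ex7 := by decide

variable [Finite G] {H : Subgroup G}

theorem cent_a (h : IsU33 a b s y) : a ∈ centralizer ({a ^ 2 * b ^ 2} : Set G) :=
  mem_centralizer_singleton_iff.2 h.aZ
theorem cent_b (h : IsU33 a b s y) : b ∈ centralizer ({a ^ 2 * b ^ 2} : Set G) :=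
  mem_centralizer_singleton_iff.2 h.bZ
theorem cent_s (h : IsU33 a b s y) : s ∈ centralizer ({a ^ 2 * b ^ 2} : Set G) :=
  mem_centralizer_singleton_iff.2 h.sZ
theorem cent_y (h : IsU33 a b s y) : y ∈ centralizer ({a ^ 2 * b ^ 2} : Set G) :=
  mem_centralizer_singleton_iff.2 h.yZ

/-- `96` divides `|C(Z)|` -/
theorem card_cent (h : IsU33 a b s y) :
    96 ∣ Nat.card (centralizer ({a ^ 2 * b ^ 2} : Set G)) := by
  have h1 : 32 ∣ Nat.card (centralizer ({a ^ 2 * b ^ 2} : Set G)) := by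
    rw [← H2.UniqCUThree.wr_card h.a4 h.b4 h.ab h.ss h.sa h.ker]
    refine card_dvd_of_le ?_
    rw [closure_le]
    rintro x (rfl | rfl | rfl)
    · exact h.cent_a
    · exact h.cent_b
    · exact h.cent_s
  have h2 : 3 ∣ Nat.card (centralizer ({a ^ 2 * b ^ 2} : Set G)) := by
    have h3 : orderOf y = 3 := orderOf_eq_prime h.y3 h.y1
    rw [← h3, ← Nat.card_zpowers]
    refine card_dvd_of_le ?_
    rw [zpowers_le]
    exact h.cent_y
  have h3 : Nat.Coprime 32 3 := by norm_num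
  exact h3.mul_dvd_of_dvd_of_dvd h1 h2

theorem ncard_class (h : IsU33 a b s y) : {x : G | IsConj (a ^ 2 * b ^ 2) x}.ncard ≤ 63 := by
  have h1 := ncard_conj_mul (a ^ 2 * b ^ 2)
  rw [h.card] at h1
  obtain ⟨c, hc⟩ := h.card_cent
  rw [hc] at h1
  have h2 : c ≠ 0 := by
    rintro rfl
    rw [mul_zero, mul_zero] at h1
    omega
  have h3 : {x : G | IsConj (a ^ 2 * b ^ 2) x}.ncard * c = 63 := by
    have : 96 * ({x : G | IsConj (a ^ 2 * b ^ 2) x}.ncard * c) = 96 * 63 := by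
      rw [← mul_assoc, mul_comm 96, mul_assoc, h1]
    omega
  exact h3 ▸ Nat.le_mul_of_pos_right _ (Nat.pos_of_ne_zero h2)

section fix

variable (h : IsU33 a b s y) (hfix : FixLE 3 H) (hZ : a ^ 2 * b ^ 2 ∈ H)
include h hfix hZ

/-- `|C(Z) : C_H(Z)| ≤ 3` -/
theorem index_le : (H.subgroupOf (centralizer ({a ^ 2 * b ^ 2} : Set G))).index ≤ 3 :=
  hfix.cent_le hZ h.Z_ne

theorem mem_z {c : G} (hc : c ∈ centralizer ({a ^ 2 * b ^ 2} : Set G)) : c * (a * b) * c⁻¹ ∈ H := by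
  have hw : c * (a * s) * c⁻¹ ∈ centralizer ({a ^ 2 * b ^ 2} : Set G) :=
    mul_mem (mul_mem hc (mul_mem h.cent_a h.cent_s)) (inv_mem hc)
  have e : (c * (a * s) * c⁻¹) ^ 2 = c * (a * b) * c⁻¹ := by
    rw [conj_pow, h.as_sq]
  have h1 := sq_mem _ (h.index_le hfix hZ) (w := ⟨_, hw⟩) (Subtype.ext (by
    show ((c * (a * s) * c⁻¹) ^ 2) ^ 4 = 1
    rw [e, conj_pow, h.ab4, mul_one, mul_inv_cancel]))
  rw [mem_subgroupOf] at h1
  have h2 : (c * (a * s) * c⁻¹) ^ 2 ∈ H := h1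
  rwa [e] at h2

theorem mem_q {c : G} (hc : c ∈ centralizer ({a ^ 2 * b ^ 2} : Set G)) :
    c * (a * b ^ 3) * c⁻¹ ∈ H := by
  have ha : c * a * c⁻¹ ∈ centralizer ({a ^ 2 * b ^ 2} : Set G) :=
    mul_mem (mul_mem hc h.cent_a) (inv_mem hc)
  have hs : c * s * c⁻¹ ∈ centralizer ({a ^ 2 * b ^ 2} : Set G) :=
    mul_mem (mul_mem hc h.cent_s) (inv_mem hc)
  have e : (c * a * c⁻¹) * (c * s * c⁻¹) * (c * a * c⁻¹)⁻¹ * (c * s * c⁻¹)⁻¹ =
      c * (a * b ^ 3) * c⁻¹ := by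
    rw [← h.comm_as]; group
  have h1 := comm_mem _ (h.index_le hfix hZ) (a := ⟨_, ha⟩) (s := ⟨_, hs⟩) (Subtype.ext (by
    show ((c * a * c⁻¹) * (c * s * c⁻¹) * (c * a * c⁻¹)⁻¹ * (c * s * c⁻¹)⁻¹) ^ 4 = 1
    rw [e, conj_pow, h.ab3_4, mul_one, mul_inv_cancel]))
  rw [mem_subgroupOf] at h1
  have h2 : (c * a * c⁻¹) * (c * s * c⁻¹) * (c * a * c⁻¹)⁻¹ * (c * s * c⁻¹)⁻¹ ∈ H := h1
  rwa [e] at h2

theorem mem_a2 {c : G} (hc : c ∈ centralizer ({a ^ 2 * b ^ 2} : Set G)) :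
    c * a ^ 2 * c⁻¹ ∈ H := by
  have h1 := mul_mem (h.mem_z hfix hZ hc) (h.mem_q hfix hZ hc)
  have h2 : a * b * (a * b ^ 3) = a ^ 2 := by
    have h3 : b * a = a * b := h.ab.symm
    calc a * b * (a * b ^ 3) = a * (b * a) * b ^ 3 := by group
      _ = a * a * b ^ 4 := by rw [h3]; group
      _ = a ^ 2 := by rw [h.b4, mul_one, pow_two]
  have h3 : c * (a * b) * c⁻¹ * (c * (a * b ^ 3) * c⁻¹) = c * a ^ 2 * c⁻¹ := by
    rw [← h2]; group
  rwa [h3] at h1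

theorem nf_mem (i : Fin 7) : nf a b s (ex7 i) ∈ H := by
  have key : ∀ j : ℕ, a ^ j * (a * b ^ 3 * s) * (a ^ j)⁻¹ ∈ H := by
    intro j
    have h1 := h.mem_a2 hfix hZ (c := a ^ j * y) (mul_mem (pow_mem h.cent_a j) h.cent_y)
    have h2 : a ^ j * y * a ^ 2 * (a ^ j * y)⁻¹ = a ^ j * (y * a ^ 2 * y⁻¹) * (a ^ j)⁻¹ := by group
    rwa [h2, h.ya] at h1
  have hcalc : ∀ j : ℕ, j ≤ 3 → a ^ j * (a * b ^ 3 * s) * (a ^ j)⁻¹ = a ^ (j + 1) * b ^ (3 - j) * s := by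
    intro j hj
    have h1 : s * (a ^ j)⁻¹ = (b ^ j)⁻¹ * s := by
      rw [eq_inv_mul_iff_mul_eq, ← mul_assoc, ← h.spa, mul_inv_cancel_right]
    have h2 : b ^ 3 * (b ^ j)⁻¹ = b ^ (3 - j) := by
      rw [mul_inv_eq_iff_eq_mul, ← pow_add]; congr 1; omega
    calc a ^ j * (a * b ^ 3 * s) * (a ^ j)⁻¹ = a ^ j * a * b ^ 3 * (s * (a ^ j)⁻¹) := by group
      _ = a ^ (j + 1) * (b ^ 3 * (b ^ j)⁻¹) * s := by rw [h1, pow_succ]; group
      _ = _ := by rw [h2]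
  have e4 : a ^ (3 + 1) * b ^ (3 - 3) * s = s := by
    rw [h.a4]; simp
  fin_cases i
  · show a ^ 2 * b ^ 2 * s ^ 0 ∈ H
    rw [pow_zero, mul_one]; exact hZ
  · show a ^ 2 * b ^ 0 * s ^ 0 ∈ H
    have h1 := h.mem_a2 hfix hZ (c := 1) (one_mem _)
    simpa using h1
  · show a ^ 0 * b ^ 2 * s ^ 0 ∈ H
    have h1 := h.mem_a2 hfix hZ (c := s) h.cent_s
    rw [h.spa, mul_inv_cancel_right] at h1
    simpa using h1
  · show a ^ 1 * b ^ 3 * s ^ 1 ∈ H
    have h1 := key 0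
    rw [hcalc 0 (by norm_num)] at h1
    simpa using h1
  · show a ^ 2 * b ^ 2 * s ^ 1 ∈ H
    have h1 := key 1
    rw [hcalc 1 (by norm_num)] at h1
    simpa using h1
  · show a ^ 3 * b ^ 1 * s ^ 1 ∈ H
    have h1 := key 2
    rw [hcalc 2 (by norm_num)] at h1
    simpa using h1
  · show a ^ 0 * b ^ 0 * s ^ 1 ∈ H
    have h1 := key 3
    rw [hcalc 3 (by norm_num), e4] at h1
    simpa using h1

end fix

end IsU33

end Cfsg.Agent.H188.Fx
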