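import Cfsg.Agent.H188.Fx.U33Core
import Cfsg.Agent.S0283

/-!
# `U₃(3)` has no action of fixity exactly 3 with point stabilizers of even order (helper188)
-/

set_option autoImplicit false
set_option linter.style.haveILetI false
set_option linter.unusedVariables false

namespace Cfsg.Agent.H188.Fx

open Subgroup Equiv.Perm Cfsg.Agent.H254.Ev
open Cfsg.Agent.EvenType.StrongP (mem_map_conj)

section fixed

variable {G : Type*} [Group G] [Finite G] (H : Subgroup G)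

open Classical in
theorem card_fixedPoints' [Fintype (G ⧸ H)] (g : G) :
    Fintype.card (Function.fixedPoints (MulAction.toPermHom G (G ⧸ H) g)) =
      (MulAction.fixedBy (G ⧸ H) g).ncard := by
  rw [← Nat.card_coe_set_eq, Nat.card_eq_fintype_card]
  refine Fintype.card_congr (Equiv.setCongr ?_)
  ext x
  rfl

/-- fixed points of elements of prime power order -/
theorem index_modEq {p n : ℕ} [hp : Fact p.Prime] {g : G} (hg : g ^ p ^ n = 1) :
    H.index ≡ (MulAction.fixedBy (G ⧸ H) g).ncard [MOD p] := by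
  classical
  haveI : Fintype (G ⧸ H) := Fintype.ofFinite _
  have h1 := card_compl_support_modEq (p := p) (n := n)
    (σ := MulAction.toPermHom G (G ⧸ H) g) (by rw [← map_pow, hg, map_one])
  have h2 : (MulAction.toPermHom G (G ⧸ H) g).supportᶜ.card =
      (MulAction.fixedBy (G ⧸ H) g).ncard := by
    rw [← Set.ncard_coe_finset]
    congr 1
    ext x
    simp [MulAction.mem_fixedBy]
  rw [h2, ← Nat.card_eq_fintype_card] at h1
  exact h1.symm

end fixed

namespace IsU33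

variable {G : Type*} [Group G] {a b s y : G} [Finite G] {H : Subgroup G}

omit [Finite G] in
theorem sq_eq (h : IsU33 a b s y) (i j : ℕ) :
    (a ^ i * b ^ j * s) * (a ^ i * b ^ j * s) = a ^ (i + j) * b ^ (i + j) := by
  calc (a ^ i * b ^ j * s) * (a ^ i * b ^ j * s) = a ^ i * b ^ j * (s * a ^ i) * b ^ j * s := by group
    _ = a ^ i * b ^ j * b ^ i * (s * b ^ j) * s := by rw [h.spa]; group
    _ = a ^ i * b ^ (j + i) * a ^ j * (s * s) := by rw [h.spb, pow_add]; group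
    _ = a ^ (i + j) * b ^ (i + j) := by
      rw [h.ss, mul_one, mul_assoc, ← h.pp, ← mul_assoc, ← pow_add, add_comm j i]

omit [Finite G] in
theorem nf_sq (h : IsU33 a b s y) (i : Fin 7) : nf a b s (ex7 i) * nf a b s (ex7 i) = 1 := by
  fin_cases i
  · show a ^ 2 * b ^ 2 * s ^ 0 * (a ^ 2 * b ^ 2 * s ^ 0) = 1
    rw [pow_zero, mul_one]; exact h.Z_sq
  · show a ^ 2 * b ^ 0 * s ^ 0 * (a ^ 2 * b ^ 0 * s ^ 0) = 1
    rw [pow_zero, pow_zero, mul_one, mul_one, ← pow_add]; exact h.a4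
  · show a ^ 0 * b ^ 2 * s ^ 0 * (a ^ 0 * b ^ 2 * s ^ 0) = 1
    rw [pow_zero, pow_zero, mul_one, one_mul, ← pow_add]; exact h.b4
  · show a ^ 1 * b ^ 3 * s ^ 1 * (a ^ 1 * b ^ 3 * s ^ 1) = 1
    rw [pow_one s, h.sq_eq, h.a4, h.b4, one_mul]
  · show a ^ 2 * b ^ 2 * s ^ 1 * (a ^ 2 * b ^ 2 * s ^ 1) = 1
    rw [pow_one s, h.sq_eq, h.a4, h.b4, one_mul]
  · show a ^ 3 * b ^ 1 * s ^ 1 * (a ^ 3 * b ^ 1 * s ^ 1) = 1
    rw [pow_one s, h.sq_eq, h.a4, h.b4, one_mul]
  · show a ^ 0 * b ^ 0 * s ^ 1 * (a ^ 0 * b ^ 0 * s ^ 1) = 1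
    rw [pow_zero, pow_zero, pow_one, one_mul, one_mul]; exact h.ss

omit [Finite G] in
theorem nf_ne (h : IsU33 a b s y) (i : Fin 7) : nf a b s (ex7 i) ≠ 1 := by
  intro h1
  have h2 : nf a b s (ex7 i) = nf a b s (0, 0, 0) := by
    rw [h1]; simp [nf]
  have h3 := h.nf_inj h2
  have key : ∀ j : Fin 7, ex7 j ≠ (0, 0, 0) := by decide
  exact key i h3

/-- `H` contains seven involutions -/
theorem seven_le (h : IsU33 a b s y) (hfix : FixLE 3 H) (hZ : a ^ 2 * b ^ 2 ∈ H) :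
    7 ≤ ({x : G | IsConj (a ^ 2 * b ^ 2) x} ∩ (H : Set G)).ncard := by
  have h1 : Set.range (fun i => nf a b s (ex7 i)) ⊆
      {x : G | IsConj (a ^ 2 * b ^ 2) x} ∩ (H : Set G) := by
    rintro _ ⟨i, rfl⟩
    exact ⟨h.one _ (h.nf_sq i) (h.nf_ne i), h.nf_mem hfix hZ i⟩
  have h2 : (Set.range (fun i => nf a b s (ex7 i))).ncard = 7 := by
    rw [← Set.image_univ, Set.ncard_image_of_injective _
      (show Function.Injective (fun i => nf a b s (ex7 i)) from h.nf_inj.comp ex7_inj), Set.ncard_univ]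
    simp
  rw [← h2]
  exact Set.ncard_le_ncard h1 (Set.toFinite _)

theorem sixteen_dvd (h : IsU33 a b s y) (hfix : FixLE 3 H) (hZ : a ^ 2 * b ^ 2 ∈ H) :
    16 ∣ Nat.card H := by
  obtain ⟨C, hC⟩ : ∃ C : Subgroup G, C = centralizer ({a ^ 2 * b ^ 2} : Set G) := ⟨_, rfl⟩
  have h1 := (H.subgroupOf C).card_mul_index
  have h2 := h.index_le hfix hZ
  rw [← hC] at h2
  have h3 : (H.subgroupOf C).index ≠ 0 := index_ne_zero_of_finite
  have h4 := h.card_cent
  rw [← hC] at h4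
  have h5 : 16 ∣ Nat.card (H.subgroupOf C) := by
    obtain ⟨n, hn⟩ : ∃ n, n = (H.subgroupOf C).index := ⟨_, rfl⟩
    rw [← hn] at h1 h2 h3
    interval_cases n <;> omega
  refine h5.trans ?_
  have h6 : Nat.card (H.subgroupOf C) = Nat.card (H ⊓ C : Subgroup G) := by
    rw [← subgroupOf_map_subtype]
    exact Nat.card_congr ((H.subgroupOf C).equivMapOfInjective _ C.subtype_injective).toEquiv
  rw [h6]
  exact card_dvd_of_le inf_le_left

/-- **`U₃(3)`: no proper subgroup `H` containing an involution is a point stabilizer of fixity at most 3** -/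
theorem top_of_mem [IsSimpleGroup G] (h : IsU33 a b s y) (hfix : FixLE 3 H)
    (hZ : a ^ 2 * b ^ 2 ∈ H) : H = ⊤ := by
  classical
  by_contra hH
  haveI : Fintype (G ⧸ H) := Fintype.ofFinite _
  have hcard := h.card
  have h2c : 2 < Nat.card G := by rw [hcard]; norm_num
  have hmul := ncard_mul H (a ^ 2 * b ^ 2)
  have hcl := h.ncard_class
  have h7 := h.seven_le hfix hZ
  have hf := hfix _ h.Z_ne
  obtain ⟨n, hn⟩ : ∃ n, n = H.index := ⟨_, rfl⟩
  obtain ⟨f, hfd⟩ : ∃ f, f = (MulAction.fixedBy (G ⧸ H) (a ^ 2 * b ^ 2)).ncard := ⟨_, rfl⟩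
  obtain ⟨c, hcd⟩ : ∃ c, c = {x : G | IsConj (a ^ 2 * b ^ 2) x}.ncard := ⟨_, rfl⟩
  obtain ⟨m, hmd⟩ : ∃ m, m = ({x : G | IsConj (a ^ 2 * b ^ 2) x} ∩ (H : Set G)).ncard := ⟨_, rfl⟩
  rw [← hfd, ← hcd, ← hmd, ← hn] at hmul
  rw [← hcd] at hcl
  rw [← hmd] at h7
  rw [← hfd] at hf
  have hn27 : n ≤ 27 := by
    have h1 : f * c ≤ 3 * 63 := Nat.mul_le_mul hf hcl
    have h2 : n * 7 ≤ n * m := Nat.mul_le_mul_left n h7
    omega
  have hidx : n * Nat.card H = 6048 := by rw [hn, ← hcard, H.index_mul_card]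
  have h16 := h.sixteen_dvd hfix hZ
  have hnd : n ∣ 378 := by
    obtain ⟨k, hk⟩ := h16
    refine ⟨k, ?_⟩
    have : 16 * (n * k) = 16 * 378 := by
      rw [← mul_assoc, mul_comm 16 n, mul_assoc, ← hk, hidx]
    omega
  have hfac : 6048 ∣ n.factorial := by
    rw [hn, ← hcard]; exact card_dvd_factorial H hH
  -- an element of order 7
  have hmod7 : n % 7 ≤ 3 := by
    haveI : Fact (Nat.Prime 7) := ⟨by norm_num⟩
    obtain ⟨g, hg⟩ := exists_prime_orderOf_dvd_card' (G := G) 7 (by rw [hcard]; norm_num)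
    have h1 := index_modEq H (p := 7) (n := 1) (g := g) (by
      rw [pow_one, ← hg]; exact pow_orderOf_eq_one g)
    have h2 := hfix g (by
      rintro rfl
      rw [orderOf_one] at hg
      omega)
    rw [← hn] at h1
    have h3 : n % 7 = (MulAction.fixedBy (G ⧸ H) g).ncard % 7 := h1
    rw [h3]
    exact (Nat.mod_le _ _).trans h2
  have hcardq : Fintype.card (G ⧸ H) = n := by
    rw [hn, ← Nat.card_eq_fintype_card]; rfl
  have hcases : n = 9 ∨ n = 14 ∨ n = 21 := by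
    have h8 : 8 ≤ n := by
      by_contra hlt
      have h9 : n ≤ 7 := by omega
      have h10 := Nat.le_of_dvd (Nat.factorial_pos _) hfac
      have h11 := Nat.factorial_le h9
      have h12 : Nat.factorial 7 = 5040 := rfl
      omega
    interval_cases n <;> omega
  have hsign : ∀ g : G, sign (MulAction.toPermHom G (G ⧸ H) g) = 1 := fun g =>
    sign_eq_one h2c (sign.comp (MulAction.toPermHom G (G ⧸ H))) g
  have hinj := toPerm_inj H hH
  rcases hcases with h9 | h14 | h21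
  · -- nine points
    have h1 := sign_nine (by rw [hcardq, h9]) (σ := MulAction.toPermHom G (G ⧸ H) (a * s))
      (by rw [orderOf_injective _ hinj]; exact h.as_order)
    rw [hsign] at h1
    exact absurd h1 (by decide)
  · -- fourteen points
    have hfm := index_modEq H (p := 2) (n := 1) (g := a ^ 2 * b ^ 2) (by
      rw [pow_one, pow_two]; exact h.Z_sq)
    rw [← hn, ← hfd, h14] at hfm
    have hmemz : a * b ∈ H := by
      have := h.mem_z hfix hZ (c := 1) (one_mem _)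
      simpa using this
    have hfz : 1 ≤ (MulAction.fixedBy (G ⧸ H) (a * b)).ncard := by
      rw [Nat.one_le_iff_ne_zero, Ne, Set.ncard_eq_zero, ← Ne, ← Set.nonempty_iff_ne_empty]
      exact ⟨((1 : G) : G ⧸ H), (mk_mem_fixedBy _ 1).2 (by simpa using hmemz)⟩
    have hsub : MulAction.fixedBy (G ⧸ H) (a * b) ⊆ MulAction.fixedBy (G ⧸ H) (a ^ 2 * b ^ 2) := by
      intro x hx
      rw [MulAction.mem_fixedBy] at hx ⊢
      rw [← h.ab_sq, pow_two, mul_smul, hx, hx]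
    have hle : (MulAction.fixedBy (G ⧸ H) (a * b)).ncard ≤ f := by
      rw [hfd]; exact Set.ncard_le_ncard hsub (Set.toFinite _)
    have hf2 : f = 2 := by
      have h1 : 14 % 2 = f % 2 := hfm
      omega
    have hfm2 := index_modEq H (p := 2) (n := 2) (g := a * b) (by
      show (a * b) ^ 4 = 1; exact h.ab4)
    rw [← hn, h14] at hfm2
    have hfz2 : (MulAction.fixedBy (G ⧸ H) (a * b)).ncard = 2 := by
      have h1 : 14 % 2 = (MulAction.fixedBy (G ⧸ H) (a * b)).ncard % 2 := hfm2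
      omega
    have heq : MulAction.fixedBy (G ⧸ H) (a * b) = MulAction.fixedBy (G ⧸ H) (a ^ 2 * b ^ 2) :=
      Set.eq_of_subset_of_ncard_le hsub (by rw [hfz2, ← hfd, hf2]) (Set.toFinite _)
    have h1 := sign_fourteen (by rw [hcardq, h14]) (σ := MulAction.toPermHom G (G ⧸ H) (a * b))
      (by rw [← map_pow, h.ab4, map_one]) (by
        intro x hx
        have h2 : x ∈ MulAction.fixedBy (G ⧸ H) (a ^ 2 * b ^ 2) := by
          rw [MulAction.mem_fixedBy, ← h.ab_sq, pow_two, mul_smul]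
          exact hx
        rw [← heq] at h2
        exact h2) (by rw [card_fixedPoints', hfz2])
    rw [hsign] at h1
    exact absurd h1 (by decide)
  · -- twenty-one points
    have hfm := index_modEq H (p := 2) (n := 1) (g := a ^ 2 * b ^ 2) (by
      rw [pow_one, pow_two]; exact h.Z_sq)
    rw [← hn, ← hfd, h21] at hfm
    have h1 : 21 % 2 = f % 2 := hfm
    have hf13 : f = 1 ∨ f = 3 := by omega
    rcases hf13 with hf1 | hf3
    · rw [hf1, one_mul, h21] at hmul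
      omega
    · have h2 := sign_of_pow_two_eq_one (σ := MulAction.toPermHom G (G ⧸ H) (a ^ 2 * b ^ 2))
        (by rw [← map_pow, pow_two, h.Z_sq, map_one])
      rw [hsign, card_fixedPoints', ← hfd, hf3, hcardq, h21] at h2
      exact absurd h2 (by decide)

/-- **`U₃(3)`: no action of fixity at most 3 with point stabilizers of even order** -/
theorem eq_top [IsSimpleGroup G] (h : IsU33 a b s y) (hfix : FixLE 3 H) (h2 : 2 ∣ Nat.card H) :
    H = ⊤ := by
  haveI : Fact (Nat.Prime 2) := ⟨Nat.prime_two⟩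
  obtain ⟨t, ht⟩ := exists_prime_orderOf_dvd_card' (G := H) 2 h2
  have ht2 : orderOf (t : G) = 2 := by rw [Subgroup.orderOf_coe]; exact ht
  have htt : (t : G) * t = 1 := by rw [← pow_two, ← ht2]; exact pow_orderOf_eq_one _
  have ht1 : (t : G) ≠ 1 := by
    intro h1
    rw [h1, orderOf_one] at ht2
    omega
  obtain ⟨g, hg⟩ := isConj_iff.1 (h.one t htt ht1)
  have h3 := h.top_of_mem (hfix.conj g⁻¹) (by
    rw [mem_map_conj, inv_inv, hg]
    exact t.2)
  rw [eq_top_iff]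
  intro x _
  have h4 : g⁻¹ * x * g ∈ H.map (MulAut.conj g⁻¹).toMonoidHom := by rw [h3]; exact mem_top _
  rw [mem_map_conj] at h4
  have h5 : g⁻¹⁻¹ * (g⁻¹ * x * g) * g⁻¹ = x := by group
  rwa [h5] at h4

end IsU33

/-! ### the model -/

section model

open Cfsg.Agent.H2.UniqCUThree Cfsg.Agent.Classification.RTwo.UThreeThree

/-- all involutions of the Sylow 2-subgroup -/
theorem inv_cases_mat : ∀ i j : Fin 4, ∀ k : Fin 2,
    (mD1 ^ (i : ℕ) * mD2 ^ (j : ℕ) * mS ^ (k : ℕ)) * (mD1 ^ (i : ℕ) * mD2 ^ (j : ℕ) * mS ^ (k : ℕ)) = 1 →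
    (i, j, k) = (0, 0, 0) ∨ ∃ l : Fin 7, (i, j, k) = IsU33.ex7 l := by decide +kernel

/-- matrices conjugating `Z` to the seven involutions -/
def cj : Fin 7 → Matrix (Fin 3) (Fin 3) K9 :=
  ![1, matB * matB, matB, mY * (matB * matB), mD1 * mY * (matB * matB), mD1 * mD1 * mY * (matB * matB),
    mD1 * mD1 * mD1 * mY * (matB * matB)]

theorem cj_mat : ∀ l : Fin 7, cj l * mZ = mD1 ^ ((IsU33.ex7 l).1 : ℕ) * mD2 ^ ((IsU33.ex7 l).2.1 : ℕ) *
    mS ^ ((IsU33.ex7 l).2.2 : ℕ) * cj l := by decide +kernel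

theorem cj_exists (l : Fin 7) : ∃ g : Cfsg.SU 3 K9 3, mt' g = cj l := by
  fin_cases l
  · exact ⟨1, rfl⟩
  · exact ⟨isGood_B.su * isGood_B.su, rfl⟩
  · exact ⟨isGood_B.su, rfl⟩
  · exact ⟨Y * (isGood_B.su * isGood_B.su), rfl⟩
  · exact ⟨D1 * Y * (isGood_B.su * isGood_B.su), rfl⟩
  · exact ⟨D1 * D1 * Y * (isGood_B.su * isGood_B.su), rfl⟩
  · exact ⟨D1 * D1 * D1 * Y * (isGood_B.su * isGood_B.su), rfl⟩

theorem mt_nf (p : Fin 4 × Fin 4 × Fin 2) : mt' (IsU33.nf D1 D2 Sw p) =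
    mD1 ^ (p.1 : ℕ) * mD2 ^ (p.2.1 : ℕ) * mS ^ (p.2.2 : ℕ) := by
  show mt' (D1 ^ (p.1 : ℕ) * D2 ^ (p.2.1 : ℕ) * Sw ^ (p.2.2 : ℕ)) = _
  rw [mt_mul', mt_mul', mt_pow, mt_pow, mt_pow]
  rfl

theorem Z_eq' : D1 ^ 2 * D2 ^ 2 = Z := by
  rw [pow_two, pow_two]; exact Z_eq

theorem conj_nf (l : Fin 7) : IsConj (D1 ^ 2 * D2 ^ 2) (IsU33.nf D1 D2 Sw (IsU33.ex7 l)) := by
  obtain ⟨g, hg⟩ := cj_exists l
  refine isConj_iff.2 ⟨g, ?_⟩
  rw [mul_inv_eq_iff_eq_mul, Z_eq']
  apply su_ext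
  show mt' (g * Z) = mt' (IsU33.nf D1 D2 Sw (IsU33.ex7 l) * g)
  rw [mt_mul', mt_mul', mt_nf, hg]
  exact cj_mat l

theorem finite_su : Finite (Cfsg.SU 3 K9 3) := Nat.finite_of_card_ne_zero (by rw [card_su]; norm_num)

theorem one_class (t : Cfsg.SU 3 K9 3) (ht : t * t = 1) (ht1 : t ≠ 1) :
    IsConj (D1 ^ 2 * D2 ^ 2) t := by
  have h2p : Fact (Nat.Prime 2) := ⟨Nat.prime_two⟩
  have hf : Finite (Cfsg.SU 3 K9 3) := finite_su
  obtain ⟨P, hP⟩ : ∃ P : Subgroup (Cfsg.SU 3 K9 3), P = closure {D1, D2, Sw} := ⟨_, rfl⟩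
  have hcard : Nat.card P = 32 := by rw [hP]; exact wr_card D1_pow D2_pow D_comm Sw_sq Sw_D ker
  have hPp : IsPGroup 2 P := IsPGroup.of_card (n := 5) (by rw [hcard]; norm_num)
  have hPi : ¬ 2 ∣ P.index := by
    have h1 := P.card_mul_index
    rw [hcard, card_su] at h1
    omega
  have ht2 : orderOf t = 2 := orderOf_eq_prime (by rw [pow_two]; exact ht) ht1
  have hz : IsPGroup 2 (zpowers t) := IsPGroup.of_card (n := 1) (by rw [Nat.card_zpowers, ht2, pow_one])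
  obtain ⟨Q, hQ⟩ := hz.exists_le_sylow
  obtain ⟨g, hg⟩ := MulAction.exists_smul_eq (Cfsg.SU 3 K9 3) Q (hPp.toSylow hPi)
  have h1 : g * t * g⁻¹ ∈ P := by
    have h3 : g * t * g⁻¹ ∈ ((g • Q : Sylow 2 (Cfsg.SU 3 K9 3)) : Subgroup (Cfsg.SU 3 K9 3)) := by
      rw [Sylow.coe_subgroup_smul]
      exact ⟨t, hQ (mem_zpowers t), rfl⟩
    rw [hg] at h3
    exact h3
  rw [hP] at h1
  obtain ⟨i, j, k, hijk⟩ := wr_mem D1_pow D2_pow D_comm Sw_sq Sw_D h1
  have hma : D1 ^ i = D1 ^ (i % 4) := by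
    conv_lhs => rw [← Nat.div_add_mod i 4]
    rw [pow_add, pow_mul, D1_pow, one_pow, one_mul]
  have hmb : D2 ^ j = D2 ^ (j % 4) := by
    conv_lhs => rw [← Nat.div_add_mod j 4]
    rw [pow_add, pow_mul, D2_pow, one_pow, one_mul]
  have hms : Sw ^ k = Sw ^ (k % 2) := by
    conv_lhs => rw [← Nat.div_add_mod k 2]
    rw [pow_add, pow_mul, pow_two, Sw_sq, one_pow, one_mul]
  obtain ⟨p, hp⟩ : ∃ p : Fin 4 × Fin 4 × Fin 2, g * t * g⁻¹ = IsU33.nf D1 D2 Sw p :=
    ⟨(⟨i % 4, Nat.mod_lt _ (by norm_num)⟩, ⟨j % 4, Nat.mod_lt _ (by norm_num)⟩,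
      ⟨k % 2, Nat.mod_lt _ (by norm_num)⟩), by rw [hijk, hma, hmb, hms]; rfl⟩
  have hsq : IsU33.nf D1 D2 Sw p * IsU33.nf D1 D2 Sw p = 1 := by
    rw [← hp]
    have : g * t * g⁻¹ * (g * t * g⁻¹) = g * (t * t) * g⁻¹ := by group
    rw [this, ht, mul_one, mul_inv_cancel]
  have hsq' := congrArg mt' hsq
  rw [mt_mul', mt_nf] at hsq'
  have hconj : IsConj t (IsU33.nf D1 D2 Sw p) := isConj_iff.2 ⟨g, hp⟩
  rcases inv_cases_mat p.1 p.2.1 p.2.2 hsq' with h4 | ⟨l, h4⟩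
  · exfalso
    apply ht1
    have h5 : p = (0, 0, 0) := h4
    rw [h5] at hp
    have h6 : g * t * g⁻¹ = 1 := by
      rw [hp]; simp [IsU33.nf]
    rw [mul_inv_eq_one] at h6
    simpa using h6
  · have h5 : p = IsU33.ex7 l := h4
    rw [h5] at hconj
    exact (conj_nf l).trans hconj.symm

theorem isU33_model : IsU33 D1 D2 Sw Y where
  card := card_su
  a4 := D1_pow
  b4 := D2_pow
  ab := D_comm
  ss := Sw_sq
  sa := Sw_D
  y3 := Y_cube
  y1 := by
    intro h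
    have h1 : mY = 1 := congrArg mt' h
    have h2 : mY 0 0 = 1 := by rw [h1]; rfl
    revert h2
    decide +kernel
  yZ := by rw [Z_eq']; exact Y_Z
  ya := by
    rw [mul_inv_eq_iff_eq_mul, pow_two]
    apply su_ext
    show mY * (mD1 * mD1) = mt' (D1 * D2 ^ 3 * Sw * Y)
    rw [mt_mul', mt_mul', mt_mul', mt_pow]
    have : mY * (mD1 * mD1) = mD1 * mD2 ^ 3 * mS * mY := by decide +kernel
    exact this
  ker := ker
  one := one_class

end model

/-- **`U₃(3)`** (task 2288) -/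
theorem ev3_psu3_three (F : Type*) [Field F] [Fintype F] (hF : Fintype.card F = 9)
    {H : Subgroup (Cfsg.PSU 3 F 3)} (hfix : FixLE 3 H) (h2 : 2 ∣ Nat.card H) :
    ¬ ∃ g : Cfsg.PSU 3 F 3, g ≠ 1 ∧ (MulAction.fixedBy (Cfsg.PSU 3 F 3 ⧸ H) g).ncard = 3 := by
  rintro ⟨g, -, hg⟩
  have hcard : Fintype.card F = Fintype.card Classification.RTwo.UThreeThree.K9 := by
    rw [hF, Classification.RTwo.UThreeThree.card_k9]
  let e := (Classification.RTwo.UThreeThree.psuEquiv hF).trans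
    (LieClassical.FieldTransfer.suCongr 3 3 (FiniteField.ringEquivOfCardEq hcard))
  haveI hs : IsSimpleGroup (Cfsg.PSU 3 F 3) :=
    S0283.result (F := F) (q := 3) (by rw [hF]; norm_num) 3 le_rfl (by norm_num)
  have hU := isU33_model.map e.symm
  haveI : Finite (Cfsg.PSU 3 F 3) := Nat.finite_of_card_ne_zero (by rw [hU.card]; norm_num)
  exact ne_top_of_exact (by norm_num) hg (hU.eq_top hfix h2)

end Cfsg.Agent.H188.Fx
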